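import Cfsg.Agent.H701.F43.Cent
import Cfsg.Agent.KFacts.RgdFiltChev
import Cfsg.Agent.H965.XZ.Walk
import Cfsg.Agent.H275.CS.Poin
import Cfsg.Agent.S1035
import Cfsg.Agent.Prune
set_option linter.all false

section
prune_inst 0x7ffffffffffeffffffff7fffffffdffffffffffffffffffbffeeffffbffffb9efbfffbbffffbf3ff3ff7feff3efa7bd7fbffffffeffffd7ffffffff47fffff9fbfefbdbe79ffbefe1fff6ffffbf1ffce7f3fffffffffffffffffffffffffffbefffdffffffff

-- part: H520/FC/Defs
section
set_option linter.all false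

/-!
# S2464, `F₄(q)`, `q` odd: the interface of the bound for `|C(g)|`, `g` `p`-singular, no long root element (helper520)

`θ = vec chevF4 4 47` the highest root, node `3` the long end, node `0` the short end.

* `PK K J`, `VK K J` : the parabolic subgroups and their unipotent radicals;
* `cls P u` : the class of `u` under `P`;
* `Lng u` : `u` is conjugate into the root group of `θ`;
* `OC3`, `OB3` : the bounds for the classes in the parabolics of type `C₃`, `B₃`;
* `Mixed` : the bound for `g = u s`, `u` a long root element, `s ≠ 1` of order prime to `p`;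
* `CB` : the bound for all `g`.
-/

set_option autoImplicit false
set_option linter.unusedSectionVars false

namespace Cfsg.Agent.H520.FC

open CoxeterSystem Cfsg.Agent.ChevalleyStructure.CoxeterGeom Cfsg.Agent.Tits.Roots Cfsg.Agent.Tits.Core
  Cfsg.Agent.Tits.Exchange Cfsg.Agent.Nodes.Reps Cfsg.Agent.Nodes.BNOf Cfsg.Agent.Nodes.StabComb
  Cfsg.Agent.Nodes.Bruhat Cfsg.Agent.Nodes.OppDec Cfsg.Agent.Nodes.LeviDec Cfsg.Agent.Nodes.NormX
  Cfsg.Agent.Nodes.Coroot Cfsg.Agent.Nodes.RGDChev Cfsg.Agent.KFacts.RgdPar Cfsg.Agent.KFacts.RgdTI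
  Cfsg.Agent.KFacts.RgdCent Cfsg.Agent.KFacts.RgdChevCoord Cfsg.Agent.Nodes.ChevCls
  Cfsg.Agent.OddHalf.NI.ModelChev Cfsg.Agent.H225.PPow
open Cfsg.Lie Cfsg.Agent.ChevalleyStructure Cfsg.Agent.ChevalleyStructure.Elts
  Cfsg.Agent.ChevalleyStructure.RootVec Cfsg.Agent.ChevalleyStructure.NPerm
  Cfsg.Agent.ChevalleyStructure.CoxeterGeomTypes
open Cfsg.Agent.H701.F43.Cent (hF cF)

universe u

/-- the parabolic subgroup `P_J` -/
abbrev PK (K : Type u) [Field K] (J : Set (Fin 4)) : Subgroup ↥(chevF4.group K) :=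
  PJ cF hF.isCartan (TT chevF4 K) (XX chevF4 4 K) J

/-- its unipotent radical -/
abbrev VK (K : Type u) [Field K] (J : Set (Fin 4)) : Subgroup ↥(chevF4.group K) :=
  VJ cF hF.isCartan (XX chevF4 4 K) J

/-- the root group of the highest root -/
abbrev XT (K : Type u) [Field K] : Subgroup ↥(chevF4.group K) := XX chevF4 4 K (vec chevF4 4 47)

/-- the class of `u` under `P` -/
def cls {Y : Type*} [Group Y] (P : Subgroup Y) (u : Y) : Set Y := {x | ∃ g ∈ P, g * u * g⁻¹ = x}

section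

variable {K : Type u} [Field K]

/-- `u` is conjugate into the root group of the highest root -/
def Lng (u : ↥(chevF4.group K)) : Prop := ∃ g : ↥(chevF4.group K), g * u * g⁻¹ ∈ XT K

end

/-- the parabolic of type `C₃` -/
def OC3 (K : Type u) [Field K] : Prop :=
  ∀ u ∈ VK K {k | k ≠ 3}, u ∉ XT K → Nat.card K ^ 7 ≤ Nat.card ↥(cls (PK K {k | k ≠ 3}) u)

/-- the parabolic of type `B₃` -/
def OB3 (K : Type u) [Field K] : Prop :=
  ∀ u ∈ VK K {k | k ≠ 0}, ¬ Lng u →
    (Nat.card K - 1) ^ 2 * Nat.card K ^ 5 ≤ 2 * Nat.card ↥(cls (PK K {k | k ≠ 0}) u)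

/-- the degree of the two middle characters -/
def d2 (q : ℕ) : ℕ := q ^ 8 * (q ^ 2 - 1) * (q ^ 6 - 1) / 2

end Cfsg.Agent.H520.FC
end

-- part: H744/FC/Par
section
prune_inst 0x1000000000000000000000000000000000000000000000000040004000000000000000000000000010000000000000000000000000003000000200000000000000000000000000000000000000000000000000000000000000000000000000000
set_option linter.all false
open scoped Cfsg.Agent.FastGrp

/-!
# S2464, `F₄(q)`: the orders of the parabolic subgroups (for helper520)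

`card_T`, `card_U`, `card_B`; `card_01_3`, `card_0_23`, `card_12`, `card_012`, `card_123`.
-/

set_option autoImplicit false
set_option linter.unusedSectionVars false

namespace Cfsg.Agent.H744.FC

open CoxeterSystem Cfsg.Agent.ChevalleyStructure.CoxeterGeom Cfsg.Agent.Tits.Roots Cfsg.Agent.Tits.Core
  Cfsg.Agent.Tits.Exchange Cfsg.Agent.Nodes.Reps Cfsg.Agent.Nodes.BNOf Cfsg.Agent.Nodes.StabComb
  Cfsg.Agent.Nodes.Bruhat Cfsg.Agent.Nodes.OppDec Cfsg.Agent.Nodes.LeviDec Cfsg.Agent.Nodes.NormX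
  Cfsg.Agent.Nodes.Coroot Cfsg.Agent.Nodes.RGDChev Cfsg.Agent.KFacts.RgdPar Cfsg.Agent.KFacts.RgdTI
  Cfsg.Agent.KFacts.RgdCent Cfsg.Agent.KFacts.RgdChevCoord Cfsg.Agent.Nodes.ChevCls
  Cfsg.Agent.OddHalf.NI.ModelChev Cfsg.Agent.H225.PPow
open Cfsg.Lie Cfsg.Agent.ChevalleyStructure Cfsg.Agent.ChevalleyStructure.Elts
  Cfsg.Agent.ChevalleyStructure.RootVec Cfsg.Agent.ChevalleyStructure.NPerm
  Cfsg.Agent.ChevalleyStructure.CoxeterGeomTypes
open Cfsg.Agent.H701.F43.Cent (hF cF)
open Cfsg.Agent.H520.FC (PK VK XT)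
open Cfsg.Agent.H35.Poin (APath card_PJ_path PJ_empty card_B')
open Cfsg.Agent.H965.XZ (BPath card_PJ_bpath gs)

universe u

variable (K : Type u) [Field K] [Finite K]

/-! ### the torus, the root groups, the unipotent group -/

theorem card_T : Nat.card ↥(TT chevF4 K) = (Nat.card K - 1) ^ 4 := by
  have := Fintype.ofFinite K
  have h1 : chevF4.diagonalSubgroup K ≤ chevF4.group K := diagonal_le_group hF.inList K
  rw [Nat.card_congr (Subgroup.subgroupOfEquivOfLe h1).toEquiv, Nat.card_eq_fintype_card (α := K)]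
  have h2 := Cfsg.Agent.S1035.result (F := K) rfl (chevF4, 1) (by simp)
  rw [one_mul] at h2
  exact h2

theorem card_X {x : Fin 4 → ℤ} (hx : IsRoot cF hF.isCartan x) : Nat.card ↥(XX chevF4 4 K x) = Nat.card K := by
  obtain ⟨p, hp⟩ := CharP.exists K
  have : Fact p.Prime := ⟨CharP.char_is_prime K p⟩
  have C := (coords (K := K) hF cF p).coord x hx
  symm
  refine Nat.card_congr (Equiv.ofBijective (fun a : K => (⟨xc hF x a, (C.mem _).2 ⟨a, rfl⟩⟩ : ↥(XX chevF4 4 K x)))
    ⟨fun a b hab => C.inj (congrArg Subtype.val hab), fun y => ?_⟩)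
  obtain ⟨a, ha⟩ := (C.mem y.1).1 y.2
  exact ⟨a, Subtype.ext ha⟩

theorem card_U : Nat.card ↥(RGD.Sup (XX chevF4 4 K) (RGD.Pos cF hF.isCartan)) = Nat.card K ^ 24 := by
  obtain ⟨p, hp⟩ := CharP.exists K
  have : Fact p.Prime := ⟨CharP.char_is_prime K p⟩
  have hfin : (RGD.Pos cF hF.isCartan).Finite :=
    (RGD.finite_roots (cs := cF) (h := hF.isCartan)).subset fun _ hx => hx.1
  have hP : ∀ x, x ∈ hfin.toFinset ↔ IsRoot cF hF.isCartan x ∧ 0 ≤ x := fun x => Set.Finite.mem_toFinset hfin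
  have h1 : hfin.toFinset.card = 24 := by
    have h2 := Cfsg.Agent.H275.CS.Poin.two_card hF cF _ hP
    have h3 : chevF4.nroots = 48 := rfl
    omega
  have h4 := Cfsg.Agent.Nodes.CardSup.card_sup (rgd (K := K) hF cF p) (s := hfin.toFinset) (by
    rw [Set.Finite.coe_toFinset]) (by
    rw [Set.Finite.coe_toFinset]
    exact Cfsg.Agent.Nodes.Unique.closed_pos)
  rw [Set.Finite.coe_toFinset] at h4
  rw [h4, Finset.prod_congr rfl (fun x hx => card_X K ((hP x).1 hx).1), Finset.prod_const, h1]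

theorem card_B : Nat.card ↥(RGD.B cF hF.isCartan (TT chevF4 K) (XX chevF4 4 K)) =
    Nat.card K ^ 24 * (Nat.card K - 1) ^ 4 := by
  obtain ⟨p, hp⟩ := CharP.exists K
  have : Fact p.Prime := ⟨CharP.char_is_prime K p⟩
  rw [card_B' (rgd (K := K) hF cF p), card_U, card_T]

/-! ### the nodes -/

/-- the Cartan matrix -/
abbrev A4 : Fin 4 → Fin 4 → ℤ := cartanOf chevF4 4

theorem apath_of {L : List (Fin 4)} {c : ℕ → Fin 4} {m : ℕ} (h1 : ∀ t < m, c t ∈ L)
    (h2 : ∀ t < m, t + 1 < m → A4 (c t) (c (t + 1)) = -1 ∧ A4 (c (t + 1)) (c t) = -1)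
    (h3 : ∀ s < m, ∀ t < m, s + 1 < t → A4 (c s) (c t) = 0 ∧ A4 (c t) (c s) = 0)
    (h4 : ∀ j ∈ L, (∀ t < m, c t ≠ j) → ∀ t < m, A4 (c t) j = 0)
    (h5 : ∀ s < m, ∀ t < m, c s = c t → s = t) : APath A4 {i | i ∈ L} c m where
  mem := h1
  adj t ht := h2 t (by omega) ht
  far s t hs ht := h3 s (by omega) t ht hs
  out := h4
  inj := h5

theorem bpath_of {L : List (Fin 4)} {c : ℕ → Fin 4} {m : ℕ} (h1 : ∀ t < m, c t ∈ L)
    (h2 : ∀ t < m, t + 2 < m → A4 (c t) (c (t + 1)) = -1 ∧ A4 (c (t + 1)) (c t) = -1)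
    (h2' : ∀ t < m, t + 2 = m → (A4 (c t) (c (t + 1)) = -1 ∧ A4 (c (t + 1)) (c t) = -2) ∨
      (A4 (c t) (c (t + 1)) = -2 ∧ A4 (c (t + 1)) (c t) = -1))
    (h3 : ∀ s < m, ∀ t < m, s + 1 < t → A4 (c s) (c t) = 0 ∧ A4 (c t) (c s) = 0)
    (h4 : ∀ j ∈ L, (∀ t < m, c t ≠ j) → ∀ t < m, A4 (c t) j = 0)
    (h5 : ∀ s < m, ∀ t < m, c s = c t → s = t) : BPath A4 {i | i ∈ L} c m where
  mem := h1
  adj t ht := h2 t (by omega) ht
  last t ht := h2' t (by omega) ht
  far s t hs ht := h3 s (by omega) t ht hs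
  out := h4
  inj := h5

/-- the path of a list of nodes -/
def pth (cl : List (Fin 4)) (t : ℕ) : Fin 4 := cl.getD t 0

theorem stepA {L L' : List (Fin 4)} (cl : List (Fin 4)) (hP : APath A4 {i | i ∈ L} (pth cl) cl.length)
    (hd : ∀ j : Fin 4, (j ∈ L ∧ ¬ ∃ t, t < cl.length ∧ pth cl t = j) ↔ j ∈ L') :
    Nat.card ↥(PK K {i | i ∈ L}) = (∏ i ∈ Finset.range cl.length, ∑ t ∈ Finset.range (i + 2), Nat.card K ^ t) *
      Nat.card ↥(PK K {i | i ∈ L'}) := by
  obtain ⟨p, hp⟩ := CharP.exists K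
  have : Fact p.Prime := ⟨CharP.char_is_prime K p⟩
  have h1 : ({i | i ∈ L} \ {j | ∃ t < cl.length, pth cl t = j} : Set (Fin 4)) = {i | i ∈ L'} := Set.ext hd
  have h2 := card_PJ_path (rgd (K := K) hF cF p) hP (y := Nat.card K)
    (fun t _ => card_X K (isRoot_sr cF hF.isCartan _))
  rw [h1] at h2
  exact h2

theorem stepB {L L' : List (Fin 4)} (cl : List (Fin 4)) (hP : BPath A4 {i | i ∈ L} (pth cl) cl.length)
    (hd : ∀ j : Fin 4, (j ∈ L ∧ ¬ ∃ t, t < cl.length ∧ pth cl t = j) ↔ j ∈ L') :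
    Nat.card ↥(PK K {i | i ∈ L}) = (∏ i ∈ Finset.range cl.length, gs (Nat.card K) (i + 1) *
      (1 + Nat.card K ^ i * Nat.card K)) * Nat.card ↥(PK K {i | i ∈ L'}) := by
  obtain ⟨p, hp⟩ := CharP.exists K
  have : Fact p.Prime := ⟨CharP.char_is_prime K p⟩
  have h1 : ({i | i ∈ L} \ {j | ∃ t < cl.length, pth cl t = j} : Set (Fin 4)) = {i | i ∈ L'} := Set.ext hd
  have h2 := card_PJ_bpath (rgd (K := K) hF cF p) hP (y := Nat.card K) (z := Nat.card K)
    (fun t _ => card_X K (isRoot_sr cF hF.isCartan _)) (fun t _ => card_X K (isRoot_sr cF hF.isCartan _))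
  rw [h1] at h2
  exact h2

theorem card_nil : Nat.card ↥(PK K {i | i ∈ ([] : List (Fin 4))}) = Nat.card K ^ 24 * (Nat.card K - 1) ^ 4 := by
  have h1 : ({i | i ∈ ([] : List (Fin 4))} : Set (Fin 4)) = ∅ := by
    ext i
    simp
  rw [h1, ← card_B]
  exact congrArg (fun P : Subgroup ↥(chevF4.group K) => Nat.card ↥P) PJ_empty

variable {K}

theorem set_eq {J : Set (Fin 4)} {L : List (Fin 4)} (hJ : ∀ j, j ∈ J ↔ j ∈ L) : J = {i | i ∈ L} := Set.ext hJ

/-- `A₂ × ~A₁` -/
theorem card_013 {J : Set (Fin 4)} (hJ : ∀ j, j ∈ J ↔ j ∈ ([0, 1, 3] : List (Fin 4))) :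
    Nat.card ↥(PK K J) = ((1 + Nat.card K) * (1 + Nat.card K + Nat.card K ^ 2) * (1 + Nat.card K)) *
      (Nat.card K ^ 24 * (Nat.card K - 1) ^ 4) := by
  rw [set_eq hJ, stepA K (L := [0, 1, 3]) (L' := [3]) [0, 1] (apath_of (by decide) (by decide +kernel)
      (by decide +kernel) (by decide +kernel) (by decide)) (by decide),
    stepA K (L := [3]) (L' := []) [3] (apath_of (by decide) (by decide +kernel)
      (by decide +kernel) (by decide +kernel) (by decide)) (by decide), card_nil]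
  simp only [List.length_cons, List.length_nil, Finset.prod_range_succ, Finset.prod_range_zero, Finset.sum_range_succ,
    Finset.sum_range_zero, pow_zero, pow_one]
  ring

theorem card_023 {J : Set (Fin 4)} (hJ : ∀ j, j ∈ J ↔ j ∈ ([0, 2, 3] : List (Fin 4))) :
    Nat.card ↥(PK K J) = ((1 + Nat.card K) * (1 + Nat.card K + Nat.card K ^ 2) * (1 + Nat.card K)) *
      (Nat.card K ^ 24 * (Nat.card K - 1) ^ 4) := by
  rw [set_eq hJ, stepA K (L := [0, 2, 3]) (L' := [0]) [2, 3] (apath_of (by decide) (by decide +kernel)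
      (by decide +kernel) (by decide +kernel) (by decide)) (by decide),
    stepA K (L := [0]) (L' := []) [0] (apath_of (by decide) (by decide +kernel)
      (by decide +kernel) (by decide +kernel) (by decide)) (by decide), card_nil]
  simp only [List.length_cons, List.length_nil, Finset.prod_range_succ, Finset.prod_range_zero, Finset.sum_range_succ,
    Finset.sum_range_zero, pow_zero, pow_one]
  ring

/-- `B₂` -/
theorem card_12 {J : Set (Fin 4)} (hJ : ∀ j, j ∈ J ↔ j ∈ ([1, 2] : List (Fin 4))) :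
    Nat.card ↥(PK K J) = ((1 + Nat.card K) * (1 + Nat.card K) * (1 + Nat.card K ^ 2)) *
      (Nat.card K ^ 24 * (Nat.card K - 1) ^ 4) := by
  rw [set_eq hJ, stepB K (L := [1, 2]) (L' := []) [1, 2] (bpath_of (by decide) (by decide +kernel) (by decide +kernel)
      (by decide +kernel) (by decide +kernel) (by decide)) (by decide), card_nil]
  simp only [List.length_cons, List.length_nil, Finset.prod_range_succ, Finset.prod_range_zero, Finset.sum_range_succ,
    Finset.sum_range_zero, pow_zero, pow_one, gs]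
  ring

/-- `C₃` -/
theorem card_012 {J : Set (Fin 4)} (hJ : ∀ j, j ∈ J ↔ j ∈ ([0, 1, 2] : List (Fin 4))) :
    Nat.card ↥(PK K J) = ((1 + Nat.card K) * ((1 + Nat.card K) * (1 + Nat.card K ^ 2)) *
      ((1 + Nat.card K + Nat.card K ^ 2) * (1 + Nat.card K ^ 3))) * (Nat.card K ^ 24 * (Nat.card K - 1) ^ 4) := by
  rw [set_eq hJ, stepB K (L := [0, 1, 2]) (L' := []) [0, 1, 2] (bpath_of (by decide) (by decide +kernel)
      (by decide +kernel) (by decide +kernel) (by decide +kernel) (by decide)) (by decide), card_nil]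
  simp only [List.length_cons, List.length_nil, Finset.prod_range_succ, Finset.prod_range_zero, Finset.sum_range_succ,
    Finset.sum_range_zero, pow_zero, pow_one, gs]
  ring

/-- `B₃` -/
theorem card_123 {J : Set (Fin 4)} (hJ : ∀ j, j ∈ J ↔ j ∈ ([1, 2, 3] : List (Fin 4))) :
    Nat.card ↥(PK K J) = ((1 + Nat.card K) * ((1 + Nat.card K) * (1 + Nat.card K ^ 2)) *
      ((1 + Nat.card K + Nat.card K ^ 2) * (1 + Nat.card K ^ 3))) * (Nat.card K ^ 24 * (Nat.card K - 1) ^ 4) := by
  rw [set_eq hJ, stepB K (L := [1, 2, 3]) (L' := []) [3, 2, 1] (bpath_of (by decide) (by decide +kernel)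
      (by decide +kernel) (by decide +kernel) (by decide +kernel) (by decide)) (by decide), card_nil]
  simp only [List.length_cons, List.length_nil, Finset.prod_range_succ, Finset.prod_range_zero, Finset.sum_range_succ,
    Finset.sum_range_zero, pow_zero, pow_one, gs]
  ring

/-! ### the complements of one node -/

theorem card_ne3 : Nat.card ↥(PK K {k | k ≠ 3}) = ((1 + Nat.card K) * ((1 + Nat.card K) * (1 + Nat.card K ^ 2)) *
    ((1 + Nat.card K + Nat.card K ^ 2) * (1 + Nat.card K ^ 3))) * (Nat.card K ^ 24 * (Nat.card K - 1) ^ 4) :=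
  card_012 (by intro j; show j ≠ 3 ↔ _; revert j; decide)

theorem card_ne0 : Nat.card ↥(PK K {k | k ≠ 0}) = ((1 + Nat.card K) * ((1 + Nat.card K) * (1 + Nat.card K ^ 2)) *
    ((1 + Nat.card K + Nat.card K ^ 2) * (1 + Nat.card K ^ 3))) * (Nat.card K ^ 24 * (Nat.card K - 1) ^ 4) :=
  card_123 (by intro j; show j ≠ 0 ↔ _; revert j; decide)

/-- smaller sets of nodes -/
theorem PK_mono {J J' : Set (Fin 4)} (h : J ⊆ J') : PK K J ≤ PK K J' := by
  obtain ⟨p, hp⟩ := CharP.exists K
  have : Fact p.Prime := ⟨CharP.char_is_prime K p⟩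
  have R := rgd (K := K) hF cF p
  intro y hy
  obtain ⟨w, hw, hc⟩ := (mem_PJ_iff_cell R).1 hy
  exact (mem_PJ_iff_cell R).2 ⟨w, Subgroup.closure_mono (Set.image_mono h) hw, hc⟩

theorem card_le_of_subset {J J' : Set (Fin 4)} (h : J ⊆ J') : Nat.card ↥(PK K J) ≤ Nat.card ↥(PK K J') :=
  Nat.card_le_card_of_injective _ (Subgroup.inclusion_injective (PK_mono h))

/-- a proper set of nodes -/
theorem sub_cases {J : Set (Fin 4)} (hJ : J ≠ Set.univ) : J = {0, 1, 2} ∨ J = {1, 2, 3} ∨ J ⊆ {0, 1, 3} ∨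
    J ⊆ {0, 2, 3} ∨ J ⊆ {1, 2} := by
  classical
  obtain ⟨i, hi⟩ := (Set.ne_univ_iff_exists_notMem J).1 hJ
  by_cases h0 : (0 : Fin 4) ∈ J <;> by_cases h1 : (1 : Fin 4) ∈ J <;> by_cases h2 : (2 : Fin 4) ∈ J <;>
    by_cases h3 : (3 : Fin 4) ∈ J
  map_tacs [(exfalso; apply hi; fin_cases i <;> assumption); (left; ext j; fin_cases j <;> simp [h0, h1, h2, h3]; done);
   (right; right; left; intro j hj; fin_cases j <;> simp_all; done); (right; right; left; intro j hj; fin_cases j <;> simp_all; done);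
   (right; right; right; left; intro j hj; fin_cases j <;> simp_all; done); (right; right; right; left; intro j hj; fin_cases j <;> simp_all; done);
   (right; right; left; intro j hj; fin_cases j <;> simp_all; done); (right; right; left; intro j hj; fin_cases j <;> simp_all; done);
   (right; left; ext j; fin_cases j <;> simp [h0, h1, h2, h3]; done); (right; right; right; right; intro j hj; fin_cases j <;> simp_all; done);
   (right; right; left; intro j hj; fin_cases j <;> simp_all; done); (right; right; left; intro j hj; fin_cases j <;> simp_all; done);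
   (right; right; right; left; intro j hj; fin_cases j <;> simp_all; done); (right; right; right; left; intro j hj; fin_cases j <;> simp_all; done);
   (right; right; left; intro j hj; fin_cases j <;> simp_all; done); (right; right; left; intro j hj; fin_cases j <;> simp_all; done)]

end Cfsg.Agent.H744.FC
end
end
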